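-- Team project SUG (S2412: PSU_n(q), n ≥ 3, (n,q) ≠ (3,2), is generated by two elements).
-- Interface file (coordinator helper57).  Paper proofs: plan notes, topic S2412.
import Mathlib
import Cfsg.Prelude.Def_Classical
import Cfsg.Prelude.Def_ClassicalGeometry

set_option autoImplicit false
open scoped Matrix

namespace Cfsg.Agent.Lib.Helper57.SUG

universe u

/-- the matrix of an element of `SU_n`. -/
abbrev mat {n : ℕ} {F : Type u} [Field F] {q : ℕ} (g : ↥(Cfsg.SU n F q)) :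
    Matrix (Fin n) (Fin n) F :=
  ((g : Matrix.SpecialLinearGroup (Fin n) F) : Matrix (Fin n) (Fin n) F)

/-- the standard basis vector `e_i` of `F^n` (the zero vector if `n ≤ i`). -/
def Ev (n : ℕ) (F : Type u) [Field F] (i : ℕ) : Fin n → F := fun j => if j.val = i then 1 else 0

/-- `v` is supported on the coordinates `< k`. -/
def SuppLt {n : ℕ} {F : Type u} [Field F] (k : ℕ) (v : Fin n → F) : Prop :=
  ∀ j : Fin n, k ≤ j.val → v j = 0

/-- `K` contains the full root group of `v`: every element of `SU_n` whose matrix is a unitary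
transvection `x ↦ x + c h(x, v) v`. -/
def HasT {n : ℕ} {F : Type u} [Field F] {q : ℕ} (K : Subgroup ↥(Cfsg.SU n F q))
    (v : Fin n → F) : Prop :=
  ∀ (A : ↥(Cfsg.SU n F q)) (c : F), mat A = Cfsg.unitaryTransvection n q v c → A ∈ K

/-- every isotropic vector supported on the coordinates `< k` is the centre of a root group
of `K`. -/
def Inv {n : ℕ} {F : Type u} [Field F] {q : ℕ} (K : Subgroup ↥(Cfsg.SU n F q)) (k : ℕ) : Prop :=
  ∀ v : Fin n → F, Cfsg.hermForm n F q v v = 0 → SuppLt k v → HasT K v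

/-! ## Generic packages -/

/-- [CONJ] `g T_v g⁻¹ = T_{g v}`. -/
def PkgConj : Prop :=
  ∀ (F : Type u) [Field F] [Fintype F] (q n : ℕ), Fintype.card F = q ^ 2 →
    ∀ (K : Subgroup ↥(Cfsg.SU n F q)) (g : ↥(Cfsg.SU n F q)) (v : Fin n → F), g ∈ K →
      HasT K v → HasT K (mat g *ᵥ v)

/-- [LINE] root groups at two non-orthogonal isotropic vectors `e`, `f` give the root groups at
all isotropic vectors of their span. -/
def PkgLine : Prop :=
  ∀ (F : Type u) [Field F] [Fintype F] (q n : ℕ), Fintype.card F = q ^ 2 →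
    ∀ (K : Subgroup ↥(Cfsg.SU n F q)) (e f : Fin n → F),
      Cfsg.hermForm n F q e e = 0 → Cfsg.hermForm n F q f f = 0 →
      Cfsg.hermForm n F q e f ≠ 0 → HasT K e → HasT K f →
      ∀ a b : F, Cfsg.hermForm n F q (a • e + b • f) (a • e + b • f) = 0 →
        HasT K (a • e + b • f)

/-- [MULT] one transvection `t_{v,c₀}`, `c₀ ≠ 0`, and an element `g` of `K` with `g v = μ v` whose
multiplier `μ^(q+1)` generates `F_q` additively, give the full root group of `v`. -/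
def PkgMult : Prop :=
  ∀ (F : Type u) [Field F] [Fintype F] (q n : ℕ), Fintype.card F = q ^ 2 →
    ∀ (K : Subgroup ↥(Cfsg.SU n F q)) (v : Fin n → F) (A g : ↥(Cfsg.SU n F q)) (c₀ μ : F),
      Cfsg.hermForm n F q v v = 0 → A ∈ K → g ∈ K → c₀ ≠ 0 →
      mat A = Cfsg.unitaryTransvection n q v c₀ → mat g *ᵥ v = μ • v →
      (∀ f : F, f ^ q = f →
        f ∈ AddSubgroup.closure (Set.range fun i : ℕ => (μ ^ (q + 1)) ^ i)) →
      HasT K v

/-- [FGEN] a generator-like `k` of `F_q^*` whose square (`q` odd) or fourth power (`q` even)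
generates `F_q` additively. -/
def PkgFGen : Prop :=
  ∀ (F : Type u) [Field F] [Fintype F] (q : ℕ), IsPrimePow q → Fintype.card F = q ^ 2 →
    ∃ k : F, k ^ (q - 1) = 1 ∧ ∀ f : F, f ^ q = f →
      f ∈ AddSubgroup.closure (Set.range fun i : ℕ => (k ^ (if Even q then 4 else 2)) ^ i)

/-- [BLKTRANS] the transvections centred in `W_m = ⟨e_0, …, e_{m-1}⟩` generate a group which is
transitive on the vectors of `W_m` of a given non-zero norm and fixes `e_j`, `j ≥ m`. -/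
def PkgBlkTrans : Prop :=
  ∀ (F : Type u) [Field F] [Fintype F] (q n m : ℕ), Fintype.card F = q ^ 2 → 2 ≤ m → m ≤ n →
    ¬ (m = 3 ∧ q = 2) →
    ∀ K : Subgroup ↥(Cfsg.SU n F q), Inv K m →
    ∀ x y : Fin n → F, SuppLt m x → SuppLt m y →
      Cfsg.hermForm n F q x x = Cfsg.hermForm n F q y y → Cfsg.hermForm n F q x x ≠ 0 →
      ∃ g ∈ K, mat g *ᵥ x = y ∧ ∀ j : ℕ, m ≤ j → mat g *ᵥ Ev n F j = Ev n F j

/-- [STEP] the induction step `W_m → W_{m+1}`. -/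
def PkgStep : Prop :=
  ∀ (F : Type u) [Field F] [Fintype F] (q n m : ℕ), Fintype.card F = q ^ 2 → 2 ≤ m →
    ∀ hm : m < n, ¬ (m = 3 ∧ q = 2) →
    ∀ K : Subgroup ↥(Cfsg.SU n F q), Inv K m →
      (∃ x : Fin n → F, Cfsg.hermForm n F q x x = 0 ∧ SuppLt (m + 1) x ∧ x ⟨m, hm⟩ ≠ 0 ∧
        HasT K x) →
      Inv K (m + 1)

/-- [CHAIN] the chain criterion. -/
def PkgChain : Prop :=
  ∀ (F : Type u) [Field F] [Fintype F] (q n m₀ : ℕ), Fintype.card F = q ^ 2 → 2 ≤ m₀ → m₀ ≤ n →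
    3 ≤ n → ¬ (n = 3 ∧ q = 2) → (q = 2 → 4 ≤ m₀) →
    ∀ K : Subgroup ↥(Cfsg.SU n F q), Inv K m₀ →
      (∀ m, m₀ ≤ m → ∀ hm : m < n, ∃ x : Fin n → F, Cfsg.hermForm n F q x x = 0 ∧
        SuppLt (m + 1) x ∧ x ⟨m, hm⟩ ≠ 0 ∧ HasT K x) →
      K = ⊤

/-- [CRIT] the criterion used for `q ≥ 3`. -/
def PkgCrit : Prop :=
  ∀ (F : Type u) [Field F] [Fintype F] (q n : ℕ), Fintype.card F = q ^ 2 → 3 ≤ q → 3 ≤ n →
    ∀ (K : Subgroup ↥(Cfsg.SU n F q)) (lam : F), lam ^ (q + 1) = -1 →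
      HasT K (Ev n F 0 + lam • Ev n F 1) →
      (∃ y ∈ K, ∃ y₀ y₁ : F, y₀ ≠ y₁ ∧ mat y *ᵥ Ev n F 0 = y₀ • Ev n F 0 ∧
        mat y *ᵥ Ev n F 1 = y₁ • Ev n F 1) →
      (∀ m, 2 ≤ m → ∀ hm : m < n, ∃ x : Fin n → F, Cfsg.hermForm n F q x x = 0 ∧
        SuppLt (m + 1) x ∧ x ⟨m, hm⟩ ≠ 0 ∧ HasT K x) →
      K = ⊤

/-! ## The four regimes -/

/-- [R2] `q = 2`, `n ≥ 4`. -/
def PkgR2 : Prop :=
  ∀ (F : Type u) [Field F] [Fintype F] (n : ℕ), Fintype.card F = 2 ^ 2 → 4 ≤ n →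
    ∃ a b : ↥(Cfsg.SU n F 2), Subgroup.closure ({a, b} : Set ↥(Cfsg.SU n F 2)) = ⊤

/-- [R3] `q = 3`, `n ≥ 3`. -/
def PkgR3 : Prop :=
  ∀ (F : Type u) [Field F] [Fintype F] (n : ℕ), Fintype.card F = 3 ^ 2 → 3 ≤ n →
    ∃ a b : ↥(Cfsg.SU n F 3), Subgroup.closure ({a, b} : Set ↥(Cfsg.SU n F 3)) = ⊤

/-- [RBIG] `q ≥ 4`, `n ≥ 4`. -/
def PkgRBig : Prop :=
  ∀ (F : Type u) [Field F] [Fintype F] (q n : ℕ), IsPrimePow q → Fintype.card F = q ^ 2 →
    4 ≤ q → 4 ≤ n →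
    ∃ a b : ↥(Cfsg.SU n F q), Subgroup.closure ({a, b} : Set ↥(Cfsg.SU n F q)) = ⊤

/-- [RU3] `q ≥ 4`, `n = 3`. -/
def PkgRU3 : Prop :=
  ∀ (F : Type u) [Field F] [Fintype F] (q : ℕ), IsPrimePow q → Fintype.card F = q ^ 2 →
    4 ≤ q →
    ∃ a b : ↥(Cfsg.SU 3 F q), Subgroup.closure ({a, b} : Set ↥(Cfsg.SU 3 F q)) = ⊤

/-! ## Final assembly -/

theorem s2412_of (h2 : PkgR2.{u}) (h3 : PkgR3.{u}) (hB : PkgRBig.{u}) (hU : PkgRU3.{u})
    {F : Type u} [Field F] [Fintype F] {q : ℕ} (hq : IsPrimePow q)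
    (hF : Fintype.card F = q ^ 2) (n : ℕ) (hn : 3 ≤ n) (h32 : n = 3 → q ≠ 2) :
    ∃ a b : Cfsg.PSU n F q, Subgroup.closure ({a, b} : Set (Cfsg.PSU n F q)) = ⊤ := by
  have hq2 : 2 ≤ q := hq.two_le
  have key : ∃ a b : ↥(Cfsg.SU n F q),
      Subgroup.closure ({a, b} : Set ↥(Cfsg.SU n F q)) = ⊤ := by
    rcases Nat.lt_or_ge q 4 with hlt | hge
    · have h23 : q = 2 ∨ q = 3 := by omega
      rcases h23 with rfl | rfl
      · have hn4 : 4 ≤ n := by
          rcases Nat.lt_or_ge n 4 with h | h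
          · exact absurd rfl (h32 (by omega))
          · exact h
        exact h2 F n hF hn4
      · exact h3 F n hF hn
    · rcases Nat.lt_or_ge n 4 with h | h
      · have hn3 : n = 3 := by omega
        subst hn3
        exact hU F q hq hF hge
      · exact hB F q n hq hF hge h
  obtain ⟨a, b, hab⟩ := key
  refine ⟨QuotientGroup.mk a, QuotientGroup.mk b, ?_⟩
  have hsurj : Function.Surjective
      (QuotientGroup.mk' (Subgroup.center ↥(Cfsg.SU n F q))) := QuotientGroup.mk'_surjective _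
  have h1 := Subgroup.map_top_of_surjective _ hsurj
  rw [← hab, MonoidHom.map_closure, Set.image_pair] at h1
  exact h1

end Cfsg.Agent.Lib.Helper57.SUG
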